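import Cfsg.Agent.H528.EP.UB3_m3
import Cfsg.Agent.H464.L2StageOne_m3
import Cfsg.Agent.H489.DegBase
import Cfsg.Agent.H59.EP.UBGen
import Cfsg.Agent.S5914
import Cfsg.Agent.PermutationGroups.Subdirect
import Cfsg.Agent.H806.LsFiTwo_m3
import Cfsg.Agent.S0292
import Cfsg.Agent.S1686
import Cfsg.Agent.S1688
import Cfsg.Agent.S1696
import Cfsg.Agent.S1697
import Cfsg.Agent.S2079
import Cfsg.Agent.S2080
import Cfsg.Agent.H433.EP.LSn
import Cfsg.Agent.H444.EP.Mon
import Cfsg.Agent.H859.ClassEleven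
import Cfsg.Agent.H337.JankoOfIso
import Cfsg.Agent.H861.ExtraRep
import Cfsg.Agent.S2042
import Cfsg.Agent.S2083
import Cfsg.Agent.H823.Converse
import Cfsg.Agent.S2056
import Cfsg.Agent.KFacts.HN.Sheet
import Cfsg.Agent.KFacts.HN.Inst
import Cfsg.Agent.FastGrp
import Cfsg.Agent.Prune
set_option linter.all false

section
prune_inst 0x7f00000000000000000000000000000000000000000000000000000000000000000000000000000000000000000000000000000000000000000000000000000000000000000000000000000000000000003fffffffffffffffffffffffffffbeffbdffffffff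

-- part: H840/EP/Base
section
set_option linter.all false
open scoped Cfsg.Agent.FastGrp

/-!
# S3499-V: sporadic rows, common part (helper840)

* `le_card` : lower bounds `Bd F r m T` for the dimension in the situation `Big`;
* `card_A` : `|A| = |L|` if `A` has socle `≅ L`, `Out L = 1`;
* `kill` : the numeric contradiction.
-/

set_option autoImplicit false

namespace Cfsg.Agent.H840.EP

open Subgroup Cfsg Cfsg.Agent.H284 Cfsg.Agent.H419.EP Cfsg.Agent.H59.EP
open Cfsg.Agent.H912.Bd Cfsg.Agent.H915.LD Cfsg.Agent.H912.Rx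
open scoped MatrixGroups

variable {Q : Type} [Group Q] [Finite Q] {A : Subgroup Q} {Γ : Subgroup (MulAut Q)} {ι : Type} [Fintype ι]
    [DecidableEq ι] {F : Type} [Field F] [Fintype F] {S P : Subgroup (GL ι F)}

/-- the core in coordinates `Fin n` -/
theorem exists_core (b : Big A Γ S P) : ∃ P' : Subgroup (GL (Fin (Fintype.card ι)) F), Core P' ∧
    Nonempty (Soc P' ≃* socle P) :=
  ⟨re (Fintype.equivFin ι) P, core_re _ (core_of_residual b.core), ⟨(socEquiv (Fintype.equivFin ι)).symm⟩⟩

/-- a lower bound for the dimension -/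
theorem le_card (b : Big A Γ S P) {T : Type} [Group T] (e : socle P ≃* T) {c : ℕ}
    (hT : Cfsg.HasCyclicSchurMultiplier T c) {r m : ℕ} (hc : c.Coprime r) (h : Bd F r m T) : m ≤ Fintype.card ι := by
  obtain ⟨P', hC, ⟨e'⟩⟩ := exists_core b
  exact H489.Deg.le_of_bd hC (e'.trans e) hT hc h

/-- the order of `A` when the socle has no outer automorphisms -/
theorem card_A (b : Big A Γ S P) {L : Type} [Group L] [Finite L] (e : socle P ≃* L)
    (hO : Nat.card (Cfsg.Out L) = 1) : Nat.card A = Nat.card L := by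
  have h := b.hasSoc' e
  apply le_antisymm
  · refine h.card_le.trans ?_
    rw [Subgroup.card_eq_card_quotient_mul_card_subgroup (Cfsg.Inn L)]
    have h1 : Nat.card (MulAut L ⧸ Cfsg.Inn L) = 1 := hO
    rw [h1, one_mul]
    exact Nat.card_le_card_of_surjective _ (MonoidHom.rangeRestrict_surjective _)
  · exact Nat.le_of_dvd Nat.card_pos h.card_dvd

/-- no abelian normal subgroup -/
theorem noAb (b : Big A Γ S P) : ∀ K : Subgroup Q, K ≤ A → (∀ a ∈ A, ∀ k ∈ K, a * k * a⁻¹ ∈ K) →
    (∀ a ∈ K, ∀ b ∈ K, a * b = b * a) → K = ⊥ := fun _ h1 h2 h3 =>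
  b.hasSoc.no_abelian b.core.simple (fun h => b.core.nonabelian ⟨⟨h⟩⟩) h1 h2 h3

/-- the numeric contradiction -/
theorem kill {a i q n : ℕ} (b : Big A Γ S P) (ha : Nat.card A = a) (hi : A.index ≤ i) (hq : q ≤ Fintype.card F)
    (hn : n ≤ Fintype.card ι) (hqp : 1 ≤ q) (h : 8 * (a * i) < q ^ (n * (n - 1) / 2)) : False := by
  have h1 := b.ord
  rw [← A.card_mul_index, ha] at h1
  have h2 : q ^ (n * (n - 1) / 2) ≤ Fintype.card F ^ (Fintype.card ι * (Fintype.card ι - 1) / 2) :=
    (Nat.pow_le_pow_right hqp (Nat.div_le_div_right (Nat.mul_le_mul hn (by omega)))).trans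
      (Nat.pow_le_pow_left hq _)
  have h3 : 8 * (a * A.index) ≤ 8 * (a * i) := Nat.mul_le_mul_left _ (Nat.mul_le_mul_left _ hi)
  omega

/-- the bound of UB1 + UB2 for `|A| = ∏ p ^ e` -/
def ubt (l : List (ℕ × ℕ)) : ℕ :=
  1 + ((l.map fun x => gal x.1 x.2).sum * ((l.map fun x => x.1 ^ x.2).prod / 6) +
    (l.map fun x => x.1 ^ x.2).prod ^ 2 / 60 + (l.map fun x => x.1 ^ x.2).prod ^ 3 / 12744000) *
      (2 * ((l.map fun x => x.1 ^ x.2).prod / 6))

/-- **UB1 + UB2** -/
theorem index_le_ubt (hg : TwoGen.{0}) (b : Big A Γ S P) (l : List (ℕ × ℕ)) (h1 : ∀ x ∈ l, x.1.Prime ∧ 0 < x.2)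
    (h2 : (l.map Prod.fst).Nodup) (hc : Nat.card A = (l.map fun x => x.1 ^ x.2).prod)
    (hB : (l.map fun x => x.1 ^ x.2).prod < 60 ^ 61) : A.index ≤ ubt l := by
  have h3 := EPT.ncard_le_gen_dvd b.ept hg (noAb b) l h1 h2 (dvd_of_eq hc) hB
  refine index_le_of h3 (Cfsg.Agent.H173.EP.ub1 b.simple b.ept (by norm_num) fun _ hx =>
    EPT.six_le b.ept (noAb b) hx) ?_
  rw [hc]
  exact le_rfl

end Cfsg.Agent.H840.EP
end

-- part: H433/EP/LsFi_mg
section
set_option linter.all false
open scoped Cfsg.Agent.FastGrp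

-- part: H762/EPV/Three
section
/-!
# S3499-V: the number of two-point stabilisers, without condition on `|A|` (helper762)

`three_gen` : `S ^ k`, `k ≤ |S|`, `S` simple nonabelian, is generated by three elements.
`ncard_gen_le` : subgroups with trivial centre, of order at least `N`, generated by `d` elements: at most `|B| ^ d / N`.
`ncard_le` : `H59.EP.ncard_le` without the hypothesis `p ^ 2 ∤ |B|`, with the additional summand `|B| ^ 3 / 3600`.
-/

set_option autoImplicit false

namespace Cfsg.Agent.H762.EPV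

open Subgroup Cfsg.Agent.H284 Cfsg.Agent.H59.EP
open scoped commutatorElement

universe u

/-- powers of simple groups are generated by three elements -/
theorem three_gen {S : Type*} [Group S] [Finite S] [IsSimpleGroup S] (hna : ∃ a b : S, a * b ≠ b * a) {k : ℕ}
    (hk : k ≤ Nat.card S) (h2 : ∃ a b : S, closure ({a, b} : Set S) = ⊤) :
    ∃ t : Fin 3 → (Fin k → S), closure (Set.range t) = ⊤ := by
  classical
  haveI : Fintype S := Fintype.ofFinite S
  obtain ⟨a, b, hab⟩ := h2
  obtain ⟨w⟩ := Function.Embedding.nonempty_of_card_le (α := Fin k) (β := S) (by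
    rw [Fintype.card_fin, ← Nat.card_eq_fintype_card]; exact hk)
  let t : Fin 3 → (Fin k → S) := ![fun _ => a, fun _ => b, w]
  refine ⟨t, ?_⟩
  set M := closure (Set.range t) with hM
  have h0 : t 0 ∈ M := subset_closure ⟨0, rfl⟩
  have h1 : t 1 ∈ M := subset_closure ⟨1, rfl⟩
  have h3 : t 2 ∈ M := subset_closure ⟨2, rfl⟩
  have hsurj : ∀ i, ∀ s : S, ∃ x ∈ M, x i = s := by
    intro i s
    have h4 : M.map (Pi.evalMonoidHom (fun _ : Fin k => S) i) = ⊤ := by
      rw [eq_top_iff, ← hab, closure_le]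
      rintro x (rfl | rfl)
      · exact ⟨t 0, h0, rfl⟩
      · exact ⟨t 1, h1, rfl⟩
    have h5 : s ∈ M.map (Pi.evalMonoidHom (fun _ : Fin k => S) i) := by rw [h4]; exact mem_top _
    obtain ⟨x, hx, hx'⟩ := h5
    exact ⟨x, hx, hx'⟩
  rw [eq_top_iff]
  intro y _
  obtain ⟨x, hx, hxy⟩ := PermutationGroups.Subdirect.exists_mem_eq_on (T := fun _ : Fin k => S) (fun _ => hna) M hsurj
    Set.univ (by
      intro r _ s _ hrs
      by_contra hcon
      push Not at hcon
      obtain ⟨φ, hφ⟩ := PermutationGroups.Subdirect.exists_mulEquiv (T := fun _ : Fin k => S) M (hsurj r) (hsurj s)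
        hcon
      have e0 : φ a = a := hφ _ h0
      have e1 : φ b = b := hφ _ h1
      have e2 : ∀ z : S, φ z = z := by
        intro z
        have hz : z ∈ closure ({a, b} : Set S) := by rw [hab]; exact mem_top _
        have hle : closure ({a, b} : Set S) ≤ (φ.toMonoidHom).eqLocus (MonoidHom.id S) := by
          rw [closure_le]
          rintro x (rfl | rfl)
          · exact e0
          · exact e1
        exact hle hz
      have e3 : φ (w s) = w r := hφ _ h3
      rw [e2] at e3
      exact hrs (w.injective e3.symm)) y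
  have : x = y := funext fun r => hxy r (Set.mem_univ r)
  rw [← this]
  exact hx

/-- counting subgroups generated by `d` elements -/
theorem ncard_gen_le {B : Type*} [Group B] [Finite B] (d : ℕ) {𝒮 : Set (Subgroup B)} {N : ℕ} (hN : 0 < N)
    (hz : ∀ X ∈ 𝒮, center X = ⊥) (hcard : ∀ X ∈ 𝒮, N ≤ Nat.card X)
    (hgen : ∀ X ∈ 𝒮, ∃ t : Fin d → X, closure (Set.range t) = ⊤) : 𝒮.ncard ≤ Nat.card B ^ d / N := by
  classical
  rw [Nat.le_div_iff_mul_le hN]
  have hfin : 𝒮.Finite := Set.toFinite _
  let G : Subgroup B → Set (Fin d → B) := fun X => {p | closure (Set.range p) = X}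
  have hG : ∀ X ∈ 𝒮, N ≤ (G X).ncard := by
    intro X hX
    obtain ⟨t, ht⟩ := hgen X hX
    refine (hcard X hX).trans ?_
    have hcl : closure (Set.range fun i => (t i : B)) = X := by
      have h1 := congrArg (Subgroup.map X.subtype) ht
      rw [MonoidHom.map_closure, ← Set.range_comp, ← MonoidHom.range_eq_map, X.range_subtype] at h1
      exact h1
    have hinj : Set.InjOn (fun (g : B) (i : Fin d) => g * (t i : B) * g⁻¹) (X : Set B) := by
      intro g hg k hk e
      have h1 : ∀ x ∈ X, (k⁻¹ * g) * x = x * (k⁻¹ * g) := by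
        have hle : X ≤ centralizer {k⁻¹ * g} := by
          rw [← hcl, closure_le]
          rintro _ ⟨i, rfl⟩
          rw [SetLike.mem_coe, mem_centralizer_singleton_iff]
          have h2 : g * (t i : B) * g⁻¹ = k * (t i : B) * k⁻¹ := congrFun e i
          rw [mul_inv_eq_iff_eq_mul] at h2
          have h3 : k⁻¹ * (g * (t i : B)) = (t i : B) * k⁻¹ * g := by rw [h2]; group
          show (t i : B) * (k⁻¹ * g) = k⁻¹ * g * (t i : B)
          rw [mul_assoc k⁻¹ g, h3, mul_assoc]
        intro x hx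
        exact (mem_centralizer_singleton_iff.1 (hle hx)).symm
      have hzz : (⟨k⁻¹ * g, mul_mem (inv_mem hk) hg⟩ : X) ∈ center X := by
        rw [mem_center_iff]
        intro x
        exact Subtype.ext (h1 x x.2).symm
      rw [hz X hX, mem_bot] at hzz
      have h2 : k⁻¹ * g = 1 := Subtype.ext_iff.1 hzz
      rw [inv_mul_eq_one] at h2
      exact h2.symm
    have hc : Nat.card X = ((fun (g : B) (i : Fin d) => g * (t i : B) * g⁻¹) '' (X : Set B)).ncard := by
      rw [hinj.ncard_image]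
      rfl
    rw [hc]
    refine Set.ncard_le_ncard ?_ (Set.toFinite _)
    rintro _ ⟨g, hg, rfl⟩
    show closure (Set.range fun i => g * (t i : B) * g⁻¹) = X
    have h1 : (Set.range fun i => g * (t i : B) * g⁻¹) = (MulAut.conj g).toMonoidHom '' (Set.range fun i => (t i : B)) := by
      rw [← Set.range_comp]
      rfl
    rw [h1, ← MonoidHom.map_closure, hcl]
    ext y
    constructor
    · rintro ⟨x, hx, rfl⟩
      exact X.mul_mem (X.mul_mem hg hx) (X.inv_mem hg)
    · intro hy
      refine ⟨g⁻¹ * y * g, X.mul_mem (X.mul_mem (X.inv_mem hg) hy) hg, ?_⟩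
      show g * (g⁻¹ * y * g) * g⁻¹ = y
      group
  have hdis : (hfin.toFinset : Set (Subgroup B)).PairwiseDisjoint fun X => (Set.toFinite (G X)).toFinset := by
    intro X _ Y _ hne
    rw [Function.onFun, Finset.disjoint_left]
    intro p hp hq
    rw [Set.Finite.mem_toFinset] at hp hq
    exact hne (hp.symm.trans hq)
  have h1 : (hfin.toFinset.biUnion fun X => (Set.toFinite (G X)).toFinset).card ≤ Nat.card (Fin d → B) := by
    have := Set.ncard_le_ncard (Set.subset_univ
      ((hfin.toFinset.biUnion fun X => (Set.toFinite (G X)).toFinset : Finset (Fin d → B)) : Set (Fin d → B)))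
      (Set.toFinite _)
    rw [Set.ncard_coe_finset, Set.ncard_univ] at this
    exact this
  rw [Finset.card_biUnion hdis, Nat.card_pi, Finset.prod_const, Finset.card_univ, Fintype.card_fin] at h1
  refine le_trans ?_ h1
  rw [Set.ncard_eq_toFinset_card _ hfin, ← smul_eq_mul]
  apply Finset.card_nsmul_le_sum
  intro X hX
  rw [← Set.ncard_eq_toFinset_card _ (Set.toFinite _)]
  exact hG X (hfin.mem_toFinset.1 hX)

/-- transport of generation along an isomorphism -/
theorem gen_congr {X Y : Type*} [Group X] [Group Y] (e : X ≃* Y) {d : ℕ}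
    (h : ∃ t : Fin d → X, closure (Set.range t) = ⊤) : ∃ t : Fin d → Y, closure (Set.range t) = ⊤ := by
  obtain ⟨t, ht⟩ := h
  refine ⟨fun i => e (t i), ?_⟩
  have h1 := congrArg (Subgroup.map e.toMonoidHom) ht
  rw [MonoidHom.map_closure, ← Set.range_comp, Subgroup.map_top_of_surjective _ e.surjective] at h1
  exact h1

/-- the nonabelian characteristically simple groups of order less than `60 ^ 61` -/
theorem char_simple' (hg0 : TwoGen.{0}) {X : Type*} [Group X] [Finite X] [Nontrivial X]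
    (hc : ∀ Y : Subgroup X, Y.Characteristic → Y = ⊥ ∨ Y = ⊤) (hB : Nat.card X < 60 ^ 61)
    (hcomm : ¬ ∀ a b : X, a * b = b * a) :
    center X = ⊥ ∧ ((IsSimpleGroup X ∧ ¬ Group.IsSolvable X ∧ ∃ a b : X, closure ({a, b} : Set X) = ⊤) ∨
      (3600 ≤ Nat.card X ∧ ∃ t : Fin 3 → X, closure (Set.range t) = ⊤)) := by
  classical
  have hz : center X = ⊥ := by
    rcases hc (center X) inferInstance with h | h
    · exact h
    · exfalso
      apply hcomm
      intro a b
      have : b ∈ center X := by rw [h]; exact mem_top _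
      exact mem_center_iff.1 this a
  refine ⟨hz, ?_⟩
  obtain ⟨S, iS, hS, n, hn, ⟨e⟩⟩ := Cfsg.Agent.S5914.result.1 hc
  haveI : Finite (Fin n → S) := Finite.of_equiv X e.toEquiv
  haveI : Finite S := by
    refine Finite.of_injective (fun (s : S) (_ : Fin n) => s) ?_
    intro s s' h
    exact congrFun h ⟨0, by omega⟩
  have hna : ∃ a b : S, a * b ≠ b * a := by
    by_contra hcon
    push Not at hcon
    apply hcomm
    intro a b
    apply e.injective
    rw [map_mul, map_mul]
    funext i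
    exact hcon _ _
  have hSn : ¬ Group.IsSolvable S := by
    intro hsol
    have h1 : commutator S < ⊤ := Group.IsSolvable.commutator_lt_top_of_nontrivial S
    rcases hS.eq_bot_or_eq_top_of_normal (commutator S) inferInstance with h | h
    · obtain ⟨a, b, hab⟩ := hna
      apply hab
      have h2 : ⁅a, b⁆ ∈ commutator S := commutator_mem_commutator (mem_top _) (mem_top _)
      rw [h, mem_bot, commutatorElement_eq_one_iff_mul_comm] at h2
      exact h2
    · exact h1.ne h
  have h60 := Cfsg.Agent.H168.NoSolv.sixty_le hSn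
  have hcard : Nat.card X = Nat.card S ^ n := by
    rw [Nat.card_congr e.toEquiv, Nat.card_pi, Finset.prod_const, Finset.card_univ, Fintype.card_fin]
  obtain ⟨a, b, hab⟩ := hg0 S
  by_cases h1 : n = 1
  · left
    subst h1
    let e1 : (Fin 1 → S) ≃* S :=
      { toFun := fun f => f 0
        invFun := fun s _ => s
        left_inv := fun f => by
          funext i
          rw [Subsingleton.elim i 0]
        right_inv := fun s => rfl
        map_mul' := fun f g => rfl }
    let E : X ≃* S := e.trans e1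
    refine ⟨E.isSimpleGroup, fun h => hSn ?_, E.symm a, E.symm b, ?_⟩
    · exact Group.isSolvable_of_surjective (f := E.toMonoidHom) E.surjective
    · have h2 := congrArg (Subgroup.map E.symm.toMonoidHom) hab
      rw [MonoidHom.map_closure, Set.image_pair, Subgroup.map_top_of_surjective _ E.symm.surjective] at h2
      exact h2
  · right
    have hn2 : 2 ≤ n := by omega
    have hn60 : n ≤ 60 := by
      by_contra hlt
      push Not at hlt
      have h2 : 60 ^ 61 ≤ Nat.card S ^ n :=
        (Nat.pow_le_pow_right (by norm_num) (by omega : 61 ≤ n)).trans (Nat.pow_le_pow_left h60 n)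
      omega
    refine ⟨?_, gen_congr e.symm (three_gen hna (hn60.trans h60) ⟨a, b, hab⟩)⟩
    rw [hcard]
    calc 3600 = 60 ^ 2 := by norm_num
      _ ≤ 60 ^ n := Nat.pow_le_pow_right (by norm_num) hn2
      _ ≤ Nat.card S ^ n := Nat.pow_le_pow_left h60 n

/-- **Counting theorem**: `𝓜` a set of subgroups `M` of `B` of index at most `c`, with `N_B(K) ≤ M` for
all characteristic subgroups `K ≠ 1` of `M`. -/
theorem ncard_le (hg0 : TwoGen.{0}) {B : Type*} [Group B] [Finite B] (hB : Nat.card B < 60 ^ 61)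
    {𝓜 : Set (Subgroup B)} {c : ℕ} (hc : ∀ M ∈ 𝓜, M.index ≤ c) (hnt : ∀ M ∈ 𝓜, M ≠ ⊥)
    (hch : ∀ M ∈ 𝓜, ∀ K : Subgroup M, K.Characteristic → K ≠ ⊥ → ∀ b : B,
      (∀ k ∈ K.map M.subtype, b * k * b⁻¹ ∈ K.map M.subtype) → b ∈ M) :
    𝓜.ncard ≤ (∑ s ∈ (Nat.card B).primeFactors, gal s ((Nat.card B).factorization s)) * c + Nat.card B ^ 2 / 60 +
      Nat.card B ^ 3 / 3600 := by
  classical
  -- the minimal characteristic subgroup
  have key : ∀ M ∈ 𝓜, ∃ X : Subgroup B, normalizer (X : Set B) = M ∧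
      ((∃ s ∈ (Nat.card B).primeFactors, ElAb s X ∧ X ≠ ⊥) ∨
        ((IsSimpleGroup X ∧ ¬ Group.IsSolvable X) ∧ ∃ a b : X, closure ({a, b} : Set X) = ⊤) ∨
        (center X = ⊥ ∧ 3600 ≤ Nat.card X ∧ ∃ t : Fin 3 → X, closure (Set.range t) = ⊤)) := by
    intro M hM
    have hMn : Nontrivial M := (Subgroup.nontrivial_iff_ne_bot M).2 (hnt M hM)
    obtain ⟨Y, hY, hYne, hYmin⟩ := exists_min_char (B := M)
    have hYn : Nontrivial Y := (Subgroup.nontrivial_iff_ne_bot Y).2 hYne
    have hYc : ∀ Z : Subgroup Y, Z.Characteristic → Z = ⊥ ∨ Z = ⊤ := by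
      intro Z hZ
      by_cases hZb : Z = ⊥
      · exact Or.inl hZb
      right
      have h1 := hYmin (Z.map Y.subtype) char_trans (by
        rintro _ ⟨z, _, rfl⟩
        exact z.2) (by
        intro e
        rw [Subgroup.map_eq_bot_iff_of_injective _ Y.subtype_injective] at e
        exact hZb e)
      rw [Subgroup.eq_top_iff']
      intro y
      have h2 : (y : M) ∈ Z.map Y.subtype := by rw [h1]; exact y.2
      obtain ⟨z, hz, e⟩ := h2
      have : z = y := Subtype.ext e
      rw [← this]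
      exact hz
    set X : Subgroup B := Y.map M.subtype with hX
    have hcard : Nat.card X = Nat.card Y :=
      (Nat.card_congr (Y.equivMapOfInjective _ M.subtype_injective).toEquiv).symm
    have e : Y ≃* X := Y.equivMapOfInjective _ M.subtype_injective
    have hXB : Nat.card Y ∣ Nat.card B := by
      rw [← hcard]
      exact Subgroup.card_subgroup_dvd_card X
    have hYlt : Nat.card Y < 60 ^ 61 := lt_of_le_of_lt (Nat.le_of_dvd Nat.card_pos hXB) hB
    have hXne : X ≠ ⊥ := by
      intro e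
      rw [hX, Subgroup.map_eq_bot_iff_of_injective _ M.subtype_injective] at e
      exact hYne e
    refine ⟨X, ?_, ?_⟩
    · apply le_antisymm
      · intro b hb
        exact hch M hM Y hY hYne b fun k hk => (mem_normalizer_iff.1 hb k).1 hk
      · intro m hm
        have hn : Y.Normal := inferInstance
        rw [mem_normalizer_iff]
        have key : ∀ m ∈ M, ∀ k ∈ X, m * k * m⁻¹ ∈ X := by
          rintro m hm _ ⟨k, hk, rfl⟩
          exact ⟨_, hn.conj_mem k hk ⟨m, hm⟩, rfl⟩
        intro k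
        refine ⟨key m hm k, fun h => ?_⟩
        have := key m⁻¹ (M.inv_mem hm) _ h
        have e : m⁻¹ * (m * k * m⁻¹) * m⁻¹⁻¹ = k := by group
        rwa [e] at this
    · by_cases hcomm : ∀ a b : Y, a * b = b * a
      · left
        obtain ⟨s, hs, hsd⟩ := Nat.exists_prime_and_dvd (n := Nat.card Y) (by
          have := Finite.one_lt_card (α := Y)
          omega)
        have : Fact s.Prime := ⟨hs⟩
        obtain ⟨x, hx⟩ := exists_prime_orderOf_dvd_card' s hsd
        let Z : Subgroup Y :=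
          { carrier := {y | y ^ s = 1}
            one_mem' := one_pow s
            mul_mem' := fun {a b} ha hb => by
              show (a * b) ^ s = 1
              rw [(show Commute a b from hcomm a b).mul_pow, show a ^ s = 1 from ha, show b ^ s = 1 from hb, one_mul]
            inv_mem' := fun {a} ha => by
              show a⁻¹ ^ s = 1
              rw [inv_pow, show a ^ s = 1 from ha, inv_one] }
        have hZ : Z.Characteristic := by
          rw [characteristic_iff_map_le]
          rintro φ _ ⟨y, hy, rfl⟩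
          show (φ y) ^ s = 1
          rw [← map_pow, show y ^ s = 1 from hy, map_one]
        have hexp : ∀ a : Y, a ^ s = 1 := by
          rcases hYc Z hZ with h | h
          · exfalso
            have h1 : x ∈ Z := by
              show x ^ s = 1
              rw [← hx, pow_orderOf_eq_one]
            rw [h, mem_bot] at h1
            rw [h1, orderOf_one] at hx
            exact hs.one_lt.ne hx
          · intro a
            have h1 : a ∈ Z := by rw [h]; exact mem_top _
            exact h1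
        refine ⟨s, Nat.mem_primeFactors.2 ⟨hs, hsd.trans hXB, Nat.card_pos.ne'⟩, ⟨?_, ?_⟩, hXne⟩
        · rintro _ ⟨a, ha, rfl⟩ _ ⟨b, hb, rfl⟩
          have := hcomm ⟨a, ha⟩ ⟨b, hb⟩
          have h1 : a * b = b * a := Subtype.ext_iff.1 this
          rw [← map_mul, ← map_mul, h1]
        · rintro _ ⟨a, ha, rfl⟩
          have := hexp ⟨a, ha⟩
          have h1 : a ^ s = 1 := Subtype.ext_iff.1 this
          rw [← map_pow, h1, map_one]
      · right
        obtain ⟨hz, h⟩ := char_simple' hg0 hYc hYlt hcomm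
        rcases h with ⟨h1, h2, a, b, hab⟩ | ⟨h1, h2⟩
        · left
          have hXs : IsSimpleGroup X := e.symm.isSimpleGroup
          refine ⟨⟨hXs, fun h => h2 ?_⟩, e a, e b, ?_⟩
          · exact Group.isSolvable_of_isSolvable_injective (f := e.toMonoidHom) e.injective
          · have h2 := congrArg (Subgroup.map e.toMonoidHom) hab
            rw [MonoidHom.map_closure, Set.image_pair, Subgroup.map_top_of_surjective _ e.surjective] at h2
            exact h2
        · right
          refine ⟨?_, by rw [hcard]; exact h1, gen_congr e h2⟩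
          rw [Subgroup.eq_bot_iff_forall]
          intro x hx
          have h3 : e.symm x ∈ center Y := by
            rw [mem_center_iff]
            intro y
            apply e.injective
            rw [map_mul, map_mul, MulEquiv.apply_symm_apply]
            exact mem_center_iff.1 hx _
          rw [hz, mem_bot] at h3
          exact e.symm.map_eq_one_iff.1 h3
  choose! f hf1 hf2 using key
  have hinj : Set.InjOn f 𝓜 := by
    intro M hM N hN e
    rw [← hf1 M hM, ← hf1 N hN, e]
  rw [← hinj.ncard_image]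
  have hsub : f '' 𝓜 ⊆ ((⋃ s ∈ (Nat.card B).primeFactors,
      {X : Subgroup B | ElAb s X ∧ X ≠ ⊥ ∧ (normalizer (X : Set B)).index ≤ c}) ∪
      {X : Subgroup B | (IsSimpleGroup X ∧ ¬ Group.IsSolvable X) ∧ ∃ a b : X, closure ({a, b} : Set X) = ⊤}) ∪
      {X : Subgroup B | center X = ⊥ ∧ 3600 ≤ Nat.card X ∧ ∃ t : Fin 3 → X, closure (Set.range t) = ⊤} := by
    rintro _ ⟨M, hM, rfl⟩
    rcases hf2 M hM with ⟨s, hs, h1, h2⟩ | h | h
    · left; left
      simp only [Set.mem_iUnion]
      exact ⟨s, hs, h1, h2, by rw [hf1 M hM]; exact hc M hM⟩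
    · left; right
      exact h
    · right
      exact h
  refine (Set.ncard_le_ncard hsub (Set.toFinite _)).trans ((Set.ncard_union_le _ _).trans (Nat.add_le_add
    ((Set.ncard_union_le _ _).trans (Nat.add_le_add ?_ ?_)) ?_))
  · have hun : ∀ I : Finset ℕ, (⋃ s ∈ I, {X : Subgroup B | ElAb s X ∧ X ≠ ⊥ ∧
        (normalizer (X : Set B)).index ≤ c}).ncard ≤
        ∑ s ∈ I, {X : Subgroup B | ElAb s X ∧ X ≠ ⊥ ∧ (normalizer (X : Set B)).index ≤ c}.ncard := by
      intro I
      induction I using Finset.induction_on with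
      | empty => simp
      | insert j I hj ih =>
        rw [Finset.sum_insert hj, Finset.set_biUnion_insert]
        exact (Set.ncard_union_le _ _).trans (Nat.add_le_add_left ih _)
    refine (hun _).trans ?_
    rw [Finset.sum_mul]
    exact Finset.sum_le_sum fun s hs => ncard_elab_class_le (Nat.prime_of_mem_primeFactors hs)
  · exact ncard_simple_le (fun X hX => hX.1) (fun X hX => hX.2)
  · exact ncard_gen_le 3 (by norm_num) (fun X hX => hX.1) (fun X hX => hX.2.1) (fun X hX => hX.2.2)

variable {Q : Type u} [Group Q] [Finite Q] {A : Subgroup Q} {Γ : Subgroup (MulAut Q)}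

/-- the number of two-point stabilisers, `μ` a lower bound for their orders -/
theorem EPT.ncard_le_of' (h : EPT A Γ) (hg0 : TwoGen.{0}) {μ : ℕ} (hμ0 : 0 < μ)
    (hμ : ∀ x, x ∉ A → μ ≤ Nat.card (A ⊓ cj x A : Subgroup Q)) (hB : Nat.card A < 60 ^ 61) :
    {M : Subgroup Q | ∃ x, x ∉ A ∧ M = A ⊓ cj x A}.ncard ≤
      (∑ s ∈ (Nat.card A).primeFactors, gal s ((Nat.card A).factorization s)) * (Nat.card A / μ) +
        Nat.card A ^ 2 / 60 + Nat.card A ^ 3 / 3600 := by
  classical
  set 𝓜 : Set (Subgroup A) := {M | ∃ x, x ∉ A ∧ M = (A ⊓ cj x A).subgroupOf A} with h𝓜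
  have h1 : {M : Subgroup Q | ∃ x, x ∉ A ∧ M = A ⊓ cj x A}.ncard ≤ 𝓜.ncard := by
    refine Set.ncard_le_ncard_of_injOn (fun M => M.subgroupOf A) ?_ ?_ (Set.toFinite _)
    · rintro _ ⟨x, hx, rfl⟩
      exact ⟨x, hx, rfl⟩
    · rintro _ ⟨x, _, rfl⟩ _ ⟨y, _, rfl⟩ e
      have e1 := congrArg (Subgroup.map A.subtype) e
      simp only [Subgroup.subgroupOf_map_subtype] at e1
      rw [inf_eq_left.2 (inf_le_left : A ⊓ cj x A ≤ A), inf_eq_left.2 (inf_le_left : A ⊓ cj y A ≤ A)] at e1
      exact e1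
  refine h1.trans (ncard_le hg0 hB ?_ ?_ ?_)
  · rintro _ ⟨x, hx, rfl⟩
    have hc : Nat.card ((A ⊓ cj x A).subgroupOf A) = Nat.card (A ⊓ cj x A : Subgroup Q) :=
      Nat.card_congr (Subgroup.subgroupOfEquivOfLe inf_le_left).toEquiv
    have hmul := ((A ⊓ cj x A).subgroupOf A).card_mul_index
    rw [hc] at hmul
    rw [Nat.le_div_iff_mul_le hμ0, ← hmul, mul_comm]
    exact Nat.mul_le_mul_right _ (hμ x hx)
  · rintro _ ⟨x, hx, rfl⟩ e
    apply h.M0 x hx
    rw [Subgroup.subgroupOf_eq_bot] at e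
    exact e.eq_bot_of_le inf_le_left
  · rintro _ ⟨x, hx, rfl⟩ K hK hne b hb
    set E : (A ⊓ cj x A).subgroupOf A ≃* (A ⊓ cj x A : Subgroup Q) :=
      Subgroup.subgroupOfEquivOfLe (inf_le_left : A ⊓ cj x A ≤ A) with hE
    have hch := char_map E hK
    have hn := h.norm_char hx (K.map E.toMonoidHom) (hK := hch) (by
      intro e
      rw [Subgroup.map_eq_bot_iff_of_injective _ E.injective] at e
      exact hne e) (a := (b : Q)) b.2 (by
      rintro _ ⟨_, ⟨k, hk, rfl⟩, rfl⟩
      obtain ⟨k', hk', e'⟩ := hb _ ⟨k, hk, rfl⟩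
      refine ⟨_, ⟨k', hk', rfl⟩, ?_⟩
      have e2 := congrArg (Subtype.val) e'
      exact e2)
    exact ⟨b.2, hn⟩

/-- **UB3, evaluated**: `|A|` given by its factorisation `l`, no condition on the exponents. -/
theorem EPT.ncard_le_list' (h : EPT A Γ) (hg0 : TwoGen.{0})
    (hab : ∀ K : Subgroup Q, K ≤ A → (∀ a ∈ A, ∀ k ∈ K, a * k * a⁻¹ ∈ K) → (∀ a ∈ K, ∀ b ∈ K, a * b = b * a) → K = ⊥)
    (hB : Nat.card A < 60 ^ 61) (l : List (ℕ × ℕ)) (h1 : ∀ x ∈ l, x.1.Prime ∧ 0 < x.2) (h2 : (l.map Prod.fst).Nodup)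
    (hc : Nat.card A = (l.map fun x => x.1 ^ x.2).prod) :
    {M : Subgroup Q | ∃ x, x ∉ A ∧ M = A ⊓ cj x A}.ncard ≤
      (l.map fun x => gal x.1 x.2).sum * (Nat.card A / 6) + Nat.card A ^ 2 / 60 + Nat.card A ^ 3 / 3600 := by
  have h3 := EPT.ncard_le_of' h hg0 (by norm_num) (fun _ hx => Cfsg.Agent.H59.EP.EPT.six_le h hab hx) hB
  have h4 : ∑ s ∈ (Nat.card A).primeFactors, gal s ((Nat.card A).factorization s) =
      (l.map fun x => gal x.1 x.2).sum := by
    rw [hc]
    exact (galSum_list l h1 h2).1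
  rwa [h4] at h3

end Cfsg.Agent.H762.EPV
end

-- part: H762/EPV/UBThree
section
/-!
# S3499-V: UB1 + UB2 without condition on `|A|` (helper762)

`index_le_three` : exact factorisation of `|A|`;  `index_le_three_dvd` : `|A|` divides `N`, factorisation of `N`.
-/

set_option autoImplicit false

namespace Cfsg.Agent.H762.EPV

open Subgroup Cfsg.Agent.H284 Cfsg.Agent.H59.EP

universe u

theorem gal_mono {s a b : ℕ} (hs : 0 < s) (hab : a ≤ b) : gal s a ≤ gal s b := by
  unfold gal
  refine (Finset.sum_le_sum fun j _ => ?_).trans (Finset.sum_le_sum_of_subset (Finset.Icc_subset_Icc_right hab))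
  exact Nat.div_le_div_right (Finset.prod_le_prod' fun i _ => Nat.sub_le_sub_right (Nat.pow_le_pow_right hs hab) _)

theorem galSum_dvd {n N : ℕ} (hN : N ≠ 0) (h : n ∣ N) : galSum n ≤ galSum N := by
  unfold galSum
  refine (Finset.sum_le_sum fun s hs => ?_).trans
    (Finset.sum_le_sum_of_subset (Nat.primeFactors_mono h hN))
  exact gal_mono (Nat.prime_of_mem_primeFactors hs).pos ((Nat.factorization_le_iff_dvd
    (fun h0 => hN (by rw [h0, zero_dvd_iff] at h; exact h)) hN).2 h s)

variable {Q : Type u} [Group Q] [Finite Q] {A : Subgroup Q} {Γ : Subgroup (MulAut Q)}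

/-- **UB1 + UB3**: `|A|` given by its factorisation `l`, no condition on the exponents. -/
theorem index_le_three (hg0 : TwoGen.{0}) (hs : IsSimpleGroup Q) (h : EPT A Γ)
    (hab : ∀ K : Subgroup Q, K ≤ A → (∀ a ∈ A, ∀ k ∈ K, a * k * a⁻¹ ∈ K) → (∀ a ∈ K, ∀ b ∈ K, a * b = b * a) → K = ⊥)
    (hB : Nat.card A < 60 ^ 61) (l : List (ℕ × ℕ)) (h1 : ∀ x ∈ l, x.1.Prime ∧ 0 < x.2) (h2 : (l.map Prod.fst).Nodup)
    (hc : Nat.card A = (l.map fun x => x.1 ^ x.2).prod) :
    A.index ≤ 1 + ((l.map fun x => gal x.1 x.2).sum * (Nat.card A / 6) + Nat.card A ^ 2 / 60 +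
      Nat.card A ^ 3 / 3600) * (2 * (Nat.card A / 6)) :=
  index_le_of (EPT.ncard_le_list' h hg0 hab hB l h1 h2 hc)
    (Cfsg.Agent.H173.EP.ub1 hs h (by norm_num) fun _ hx => Cfsg.Agent.H59.EP.EPT.six_le h hab hx) le_rfl

/-- **UB1 + UB3**, monotone form: `|A| ∣ N`, `l` the factorisation of `N < 60 ^ 61`. -/
theorem index_le_three_dvd (hg0 : TwoGen.{0}) (hs : IsSimpleGroup Q) (h : EPT A Γ)
    (hab : ∀ K : Subgroup Q, K ≤ A → (∀ a ∈ A, ∀ k ∈ K, a * k * a⁻¹ ∈ K) → (∀ a ∈ K, ∀ b ∈ K, a * b = b * a) → K = ⊥)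
    {N : ℕ} (hAN : Nat.card A ∣ N) (hB : N < 60 ^ 61) (l : List (ℕ × ℕ)) (h1 : ∀ x ∈ l, x.1.Prime ∧ 0 < x.2)
    (h2 : (l.map Prod.fst).Nodup) (hc : N = (l.map fun x => x.1 ^ x.2).prod) :
    A.index ≤ 1 + ((l.map fun x => gal x.1 x.2).sum * (N / 6) + N ^ 2 / 60 + N ^ 3 / 3600) * (2 * (N / 6)) := by
  have hl := galSum_list l h1 h2
  rw [← hc] at hl
  have hN : N ≠ 0 := hl.2.1
  have hle : Nat.card A ≤ N := Nat.le_of_dvd (Nat.pos_of_ne_zero hN) hAN
  have h3 := EPT.ncard_le_of' h hg0 (by norm_num) (fun _ hx => Cfsg.Agent.H59.EP.EPT.six_le h hab hx)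
    (lt_of_le_of_lt hle hB)
  have h4 := Cfsg.Agent.H173.EP.ub1 hs h (by norm_num) fun _ hx => Cfsg.Agent.H59.EP.EPT.six_le h hab hx
  refine h4.trans (Nat.add_le_add_left (Nat.mul_le_mul (h3.trans ?_) (Nat.mul_le_mul_left _ (Nat.div_le_div_right hle))) 1)
  refine Nat.add_le_add (Nat.add_le_add ?_ ?_) ?_
  · rw [← hl.1]
    exact Nat.mul_le_mul (galSum_dvd hN hAN) (Nat.div_le_div_right hle)
  · exact Nat.div_le_div_right (Nat.pow_le_pow_left hle 2)
  · exact Nat.div_le_div_right (Nat.pow_le_pow_left hle 3)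

end Cfsg.Agent.H762.EPV
end

-- part: H433/EP/LsFi
section
/-!
# `LS 3 26` for `Fi₂₂` and `Fi₂₃` (helper433)

`Fi₂₂` contains `Ω₇(3)`, `Fi₂₃` contains `2.Fi₂₂`. Rows `Fi₂₂` and `Fi₂₃` of part V of S3499.
-/

set_option autoImplicit false
set_option linter.unusedSectionVars false
set_option exponentiation.threshold 400

universe v w

namespace Cfsg.Agent.H433.EP

open Subgroup Cfsg.Agent.H203.LS Cfsg.Agent.H95.LSx

theorem commutator_top_of_simple {G : Type*} [Group G] [IsSimpleGroup G] (h : ¬ ∀ a b : G, a * b = b * a) :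
    commutator G = ⊤ := by
  rcases (inferInstance : (commutator G).Normal).eq_bot_or_eq_top with h1 | h1
  · exfalso
    apply h
    intro a b
    have h2 : a * b * a⁻¹ * b⁻¹ ∈ commutator G := commutator_mem_commutator (mem_top a) (mem_top b)
    rw [h1, mem_bot, mul_inv_eq_one, mul_inv_eq_iff_eq_mul] at h2
    exact h2
  · exact h1

theorem not_comm_of_card {G : Type*} [Group G] [Finite G] [IsSimpleGroup G] {n : ℕ} (hn : Nat.card G = n)
    (h : ¬ n.Prime) : ¬ ∀ a b : G, a * b = b * a := by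
  intro hc
  let _ : CommGroup G := { (inferInstance : Group G) with mul_comm := hc }
  apply h
  rw [← hn]
  exact IsSimpleGroup.prime_card

/-- from simple subgroups -/
theorem ls_of_subgroup {r d : ℕ} {T : Type} [Group T] [Finite T] [IsSimpleGroup T] (K : Subgroup T) {L : Type} [Group L]
    [IsSimpleGroup L] (hL : commutator L = ⊤) (e : K ≃* L) (h : LS.{0, v, w} r d L) : LS.{0, v, w} r d T := by
  have : Finite L := Finite.of_equiv _ e.toEquiv
  exact LS.of_sub hL (K.subtype.comp e.symm.toMonoidHom) (K.subtype_injective.comp e.symm.injective) h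

/-- from subgroups which are central extensions -/
theorem ls_of_cover {r d : ℕ} {T : Type} [Group T] [Finite T] [IsSimpleGroup T] (K : Subgroup T) {L : Type} [Group L]
    [Nontrivial L] (hL : commutator L = ⊤) (e : K ⧸ center K ≃* L) (h : LS.{0, v, w} r d L) : LS.{0, v, w} r d T := by
  refine LS.of_hom_center hL (e.toMonoidHom.comp (QuotientGroup.mk' (center K)))
    (e.surjective.comp (QuotientGroup.mk'_surjective _)) ?_ K.subtype ?_ h
  · intro x hx
    have h1 : e (QuotientGroup.mk x) = 1 := hx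
    rw [map_eq_one_iff e e.injective, QuotientGroup.eq_one_iff] at h1
    exact h1
  · rw [K.ker_subtype]
    exact bot_le

instance simple22 : IsSimpleGroup Cfsg.Spor.Fi22 := Cfsg.Agent.S1696.result.1

theorem card22 : Nat.card Cfsg.Spor.Fi22 = 64561751654400 := Cfsg.Agent.S1696.result.2

instance simple23 : IsSimpleGroup Cfsg.Spor.Fi23 := Cfsg.Agent.S1697.result.1

theorem card23 : Nat.card Cfsg.Spor.Fi23 = 4089470473293004800 := Cfsg.Agent.S1697.result.2

instance finite22 : Finite Cfsg.Spor.Fi22 := Nat.finite_of_card_ne_zero (by rw [card22]; norm_num)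

instance finite23 : Finite Cfsg.Spor.Fi23 := Nat.finite_of_card_ne_zero (by rw [card23]; norm_num)

theorem comm22 : commutator Cfsg.Spor.Fi22 = ⊤ :=
  commutator_top_of_simple (not_comm_of_card card22 (by norm_num))

/-- **`LS 3 26` for `Fi₂₂`** -/
theorem ls22 : LS.{0, v, w} 3 26 Cfsg.Spor.Fi22 := by
  obtain ⟨e⟩ := Cfsg.Agent.S1686.result
  have hK : Fintype.card (ZMod 3) = 3 := ZMod.card 3
  have hs : IsSimpleGroup (Cfsg.POmega (ZMod 3) (Cfsg.quadFormOdd 3 (ZMod 3))) :=
    Cfsg.Agent.S0295.result (by rw [hK]; decide) 3 le_rfl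
  have hc : Nat.card (Cfsg.POmega (ZMod 3) (Cfsg.quadFormOdd 3 (ZMod 3))) = 4585351680 := by
    have h1 := Cfsg.Agent.S0292.result hK (by decide) 3 le_rfl
    norm_num [Finset.prod_range_succ] at h1
    omega
  have hfin : Finite (Cfsg.POmega (ZMod 3) (Cfsg.quadFormOdd 3 (ZMod 3))) :=
    Nat.finite_of_card_ne_zero (by rw [hc]; norm_num)
  exact ls_of_subgroup _ (commutator_top_of_simple (not_comm_of_card hc (by norm_num))) e (ls_o73 hK)

/-- **`LS 3 26` for `Fi₂₃`** -/
theorem ls23 : LS.{0, v, w} 3 26 Cfsg.Spor.Fi23 := by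
  obtain ⟨e⟩ := Cfsg.Agent.S1688.result.2.1
  exact ls_of_cover _ comm22 e ls22

/-! ### the rows -/

open Cfsg Cfsg.Agent.H284 Cfsg.Agent.H419.EP Cfsg.Agent.H59.EP Cfsg.Agent.H762.EPV

/-- the bound for the index of `A` (UB1 and UB2, three generators) -/
def UBT (cA i : ℕ) (l : List (ℕ × ℕ)) : Prop :=
  i ≤ 1 + ((l.map fun x => gal x.1 x.2).sum * (cA / 6) + cA ^ 2 / 60 + cA ^ 3 / 3600) * (2 * (cA / 6))

theorem card_aut_le (G : Type) [Group G] [Finite G] : Nat.card (MulAut G) ≤ Nat.card G * Nat.card (Cfsg.Out G) := by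
  have h1 := (MulAut.conj : G →* MulAut G).range.card_mul_index
  rw [← h1]
  refine Nat.mul_le_mul ?_ le_rfl
  exact Nat.card_le_card_of_surjective (MulAut.conj : G →* MulAut G).rangeRestrict
    (MulAut.conj : G →* MulAut G).rangeRestrict_surjective

section

variable {Q : Type} [Group Q] [Finite Q] {A : Subgroup Q} {Γ : Subgroup (MulAut Q)}

theorem cardA22 (h : HasSoc A Spor.Fi22) : Nat.card A = 64561751654400 ∨ Nat.card A = 129123503308800 := by
  have h1 := h.card_le.trans (card_aut_le _)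
  rw [card22, Cfsg.Agent.S2079.result] at h1
  obtain ⟨k, hk⟩ := h.card_dvd
  rw [card22] at hk
  have h0 : 0 < Nat.card A := Nat.card_pos
  have hk2 : k = 1 ∨ k = 2 := by omega
  rcases hk2 with rfl | rfl <;> omega

theorem cardA23 (h : HasSoc A Spor.Fi23) : Nat.card A = 4089470473293004800 := by
  have h1 := h.card_le.trans (card_aut_le _)
  rw [card23, Cfsg.Agent.S2080.result] at h1
  obtain ⟨k, hk⟩ := h.card_dvd
  rw [card23] at hk
  have h0 : 0 < Nat.card A := Nat.card_pos
  have hk2 : k = 1 := by omega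
  subst hk2
  omega

theorem false_of_UBT {cA : ℕ} {l : List (ℕ × ℕ)} (hc : Nat.card A = cA) (h : UBT cA A.index l)
    (hn : (cA * (1 + ((l.map fun x => gal x.1 x.2).sum * (cA / 6) + cA ^ 2 / 60 + cA ^ 3 / 3600) * (2 * (cA / 6)))) <
      2 ^ 322) (hQ : 2 ^ 325 ≤ 8 * Nat.card Q) : False := by
  have h1 := A.card_mul_index
  rw [hc] at h1
  have h2 : Nat.card Q < 2 ^ 322 := by
    rw [← h1]
    exact lt_of_le_of_lt (Nat.mul_le_mul_left _ h) hn
  have h3 : (2 : ℕ) ^ 3 * 2 ^ 322 ≤ 2 ^ 3 * Nat.card Q := le_trans (le_of_eq (pow_add 2 3 322).symm) hQ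
  exact absurd (Nat.le_of_mul_le_mul_left h3 (by norm_num)) (not_le.2 h2)

end

variable {Q : Type} [Group Q] [Finite Q] {A : Subgroup Q} {Γ : Subgroup (MulAut Q)} {ι : Type} [Fintype ι]
  [DecidableEq ι] {F : Type} [Field F] [Fintype F] {S P : Subgroup (Matrix.GeneralLinearGroup ι F)}

theorem dim22 (b : Big A Γ S P) (h : Spor.IsoFi22 (socle P)) : 26 ≤ Fintype.card ι :=
  le_card_of_two (r := 2) (s := 3) (by norm_num)
    ((Cfsg.Agent.H806.Ls.fi22_ls_two (by
      by_contra hcon
      push Not at hcon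
      exact not_comm_of_card card22 (by norm_num) hcon)).mono (by norm_num)) ls22 b.core h

theorem dim23 (b : Big A Γ S P) (h : Spor.IsoFi23 (socle P)) : 26 ≤ Fintype.card ι :=
  le_card_of_two (r := 2) (s := 3) (by norm_num)
    ((Cfsg.Agent.H806.Ls.fi23_ls_two (by
      by_contra hcon
      push Not at hcon
      exact not_comm_of_card card23 (by norm_num) hcon)).mono (by norm_num)) ls23 b.core h

theorem row22 (hg : TwoGen.{0}) : BigOf (fun L _ => Spor.IsoFi22 L) := by
  intro Q _ _ A Γ ι _ _ F _ _ S P b h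
  have hd := dim22 b h
  obtain ⟨e⟩ := h
  have hsoc := b.hasSoc' e
  have hab := fun K h1 h2 h3 => hsoc.no_abelian simple22 (not_comm_of_card card22 (by norm_num)) (K := K) h1 h2 h3
  have hQ := b.ord_two hd
  rcases cardA22 hsoc with hc | hc
  · have h1 : UBT _ _ _ := index_le_three hg b.simple b.ept hab (by rw [hc]; decide +kernel)
      [(2, 17), (3, 9), (5, 2), (7, 1), (11, 1), (13, 1)] (by decide +kernel) (by decide +kernel)
      (by rw [hc]; decide +kernel)
    rw [hc] at h1
    exact false_of_UBT hc h1 (by decide +kernel) hQ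
  · have h1 : UBT _ _ _ := index_le_three hg b.simple b.ept hab (by rw [hc]; decide +kernel)
      [(2, 18), (3, 9), (5, 2), (7, 1), (11, 1), (13, 1)] (by decide +kernel) (by decide +kernel)
      (by rw [hc]; decide +kernel)
    rw [hc] at h1
    exact false_of_UBT hc h1 (by decide +kernel) hQ

theorem row23 (hg : TwoGen.{0}) : BigOf (fun L _ => Spor.IsoFi23 L) := by
  intro Q _ _ A Γ ι _ _ F _ _ S P b h
  have hd := dim23 b h
  obtain ⟨e⟩ := h
  have hsoc := b.hasSoc' e
  have hab := fun K h1 h2 h3 => hsoc.no_abelian simple23 (not_comm_of_card card23 (by norm_num)) (K := K) h1 h2 h3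
  have hc := cardA23 hsoc
  have h1 : UBT _ _ _ := index_le_three hg b.simple b.ept hab (by rw [hc]; decide +kernel)
    [(2, 18), (3, 13), (5, 2), (7, 1), (11, 1), (13, 1), (17, 1), (23, 1)] (by decide +kernel) (by decide +kernel)
    (by rw [hc]; decide +kernel)
  rw [hc] at h1
  exact false_of_UBT hc h1 (by decide +kernel) (b.ord_two hd)

end Cfsg.Agent.H433.EP
end

-- part: H388/EP/JFourLS
section
/-!
# Degrees of representations of `J₄` (helper388): at least 110 in characteristic `≠ 11`, at least 64 in odd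
characteristic
-/

set_option autoImplicit false

universe u v w

namespace Cfsg.Agent.H388.EP

open Cfsg Cfsg.Agent.H203.LS Cfsg.Agent.H859

theorem simple_J4 : IsSimpleGroup Spor.J4 := (KFacts.J4.Base.exists_full ⟨MulEquiv.refl _⟩).2.1

/-- a nontrivial representation of a simple group is faithful -/
theorem rep_inj {G : Type u} [Group G] [IsSimpleGroup G] {K V : Type*} [Field K] [AddCommGroup V] [Module K V]
    (ρ : G →* (V →ₗ[K] V)) (h : ∃ g, ρ g ≠ 1) : Function.Injective ρ := by
  have h1 : Function.Injective ρ.toHomUnits := by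
    rw [← MonoidHom.ker_eq_bot_iff]
    rcases (MonoidHom.normal_ker ρ.toHomUnits).eq_bot_or_eq_top with h1 | h1
    · exact h1
    · exfalso
      obtain ⟨g, hg⟩ := h
      apply hg
      have h2 : g ∈ ρ.toHomUnits.ker := by rw [h1]; exact Subgroup.mem_top _
      exact congrArg Units.val (MonoidHom.mem_ker.1 h2)
  intro a b hab
  exact h1 (Units.ext hab)

theorem ls_eleven : LS.{0, v, w} 11 110 Spor.J4 := by
  refine ls_of_rep S2042.result ?_
  intro K _ _ V _ _ _ ρ h11 hρ
  have := simple_J4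
  have h1 : ρ NU.c ≠ 1 := by
    intro h
    exact NU.rel.w1 (rep_inj ρ hρ (by rw [h, map_one]))
  have h2 := heis_le ρ (by norm_num : Nat.Prime 11) (by exact_mod_cast h11) NU.rel.wp NU.rel.aw NU.rel.bw NU.rel.ba h1
    (ι := Fin 10) (fun i => (NU.k ^ (i : ℕ))⁻¹) (fun i => 6 ^ (i : ℕ)) ?_ ?_ ?_
  · rwa [Fintype.card_fin] at h2
  · intro i
    rw [← ClassEleven.k_pow]
    group
  · intro i j hij
    have : ∀ i j : Fin 10, ((6 ^ (i : ℕ) : ℕ) : ZMod 11) = ((6 ^ (j : ℕ) : ℕ) : ZMod 11) → i = j := by decide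
    exact this i j hij
  · decide

theorem ls_two : LS.{0, v, w} 2 64 Spor.J4 := by
  refine ls_of_rep S2042.result ?_
  intro K _ _ V _ _ _ ρ h2 hρ
  have := simple_J4
  obtain ⟨z, P, -, hE, hc, -⟩ := H337.isOfJankoFourType_of_isoJ4 (G := Spor.J4) ⟨MulEquiv.refl _⟩
  exact H861.ExtraRep.dim_bound (w := 6) hE (by rw [hc]) (by exact_mod_cast h2)
    (ρ.comp (Subgroup.subtype _)) ((rep_inj ρ hρ).comp (Subgroup.subtype_injective _))

end Cfsg.Agent.H388.EP
end

-- part: H840/EP/Th
section
/-!
# S3499-V: the Thompson group (helper840)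

Characteristic not 7: dimension at least 24 (`7²` with orbits of length 24); characteristic 7: dimension at least 16.
-/

set_option autoImplicit false
set_option maxRecDepth 100000

namespace Cfsg.Agent.H840.EP.Th

open Subgroup Cfsg Cfsg.Agent.H284 Cfsg.Agent.H419.EP Cfsg.Agent.H59.EP Cfsg.Agent.H840.EP
open Cfsg.Agent.H912.Bd Cfsg.Agent.H915.LD Cfsg.Agent.H921.Spor Cfsg.Agent.H489.Deg.Th

theorem th_seven : Orb 7 24 Cfsg.Spor.Th :=
  w.orb_gen (r := 7) (d := 2) (m := 24)
    (X := [[6, 6], [2, 3, 4, 3, 4]])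
    (G := [[8], [2, 4], [1, 2, 1, 3],
      [3, 5, 4, 7, 5, 4, 3, 2, 4, 3, 7, 5, 4, 3, 6, 5, 4, 2, 3, 5, 4, 3, 6, 5, 6, 8]])
    (B := [[[4, 0], [0, 1]], [[6, 0], [0, 6]], [[1, 0], [0, 4]], [[5, 1], [2, 4]]])
    (S := [[], [1], [2, 0, 0], [3, 0, 0], [2, 2, 0], [3, 2, 0], [0, 3, 0], [2, 3, 0], [3, 3, 0], [3, 2, 2], [0, 3, 2],
      [2, 3, 2], [3, 0, 3], [2, 2, 3], [3, 2, 3], [3, 1, 0, 0], [2, 2, 1, 0], [3, 2, 1, 0], [2, 3, 1, 0],
      [3, 3, 1, 0], [3, 2, 2, 1], [0, 3, 2, 1], [2, 3, 2, 1], [2, 2, 3, 1]]) (c₀ := [1, 0])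
    (by norm_num) (by decide +kernel)

/-- the factorisation of the order -/
def l : List (ℕ × ℕ) := [(2, 15), (3, 10), (5, 3), (7, 2), (13, 1), (19, 1), (31, 1)]

variable {Q : Type} [Group Q] [Finite Q] {A : Subgroup Q} {Γ : Subgroup (MulAut Q)} {ι : Type} [Fintype ι]
    [DecidableEq ι] {F : Type} [Field F] [Fintype F] {S P : Subgroup (GL ι F)}

theorem row (hg : TwoGen.{0}) (b : Big A Γ S P) (h : Spor.IsoTh (socle P)) : False := by
  obtain ⟨e⟩ := h
  have hcT : Nat.card Cfsg.Spor.Th = 90745943887872000 := Cfsg.Agent.Th.Main1700.isTh.2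
  have : Finite Cfsg.Spor.Th := Nat.finite_of_card_ne_zero (by rw [hcT]; norm_num)
  have hc : Nat.card A = (l.map fun x => x.1 ^ x.2).prod := by
    rw [card_A b e Cfsg.Agent.S2083.result, hcT]
    decide +kernel
  have hi := index_le_ubt hg b l (by decide +kernel) (by decide +kernel) hc (by decide +kernel)
  by_cases h7 : (7 : F) = 0
  · have h2 : ((2 : ℕ) : F) ≠ 0 := by
      intro h2
      have h3 : (1 : F) = (7 : F) - 3 * ((2 : ℕ) : F) := by push_cast; ring
      rw [h7, h2, mul_zero, sub_zero] at h3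
      exact one_ne_zero h3
    have hn : 16 ≤ Fintype.card ι :=
      le_card b e Cfsg.Agent.S2057.result (r := 2) (by norm_num) (th_two.bd (F := F) (by norm_num) h2)
    have hq : 7 ≤ Fintype.card F := by
      have h3 : ((7 : ℕ) : F) = 0 := by exact_mod_cast h7
      have : Fact (Nat.Prime 7) := ⟨by norm_num⟩
      have : CharP F 7 := by
        obtain ⟨p, hp⟩ := CharP.exists F
        have h4 : p ∣ 7 := (CharP.cast_eq_zero_iff F p 7).1 h3
        rcases (Nat.dvd_prime (by norm_num)).1 h4 with rfl | rfl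
        · exact absurd (CharP.cast_eq_zero F 1) (by rw [Nat.cast_one]; exact one_ne_zero)
        · exact hp
      obtain ⟨k, -, hk⟩ := FiniteField.card F 7
      rw [hk]
      exact Nat.le_self_pow k.ne_zero 7
    exact kill b hc hi hq hn (by norm_num) (by decide +kernel)
  · have hn : 24 ≤ Fintype.card ι :=
      le_card b e Cfsg.Agent.S2057.result (r := 7) (by norm_num)
        (th_seven.bd (F := F) (by norm_num) (by exact_mod_cast h7))
    exact kill b hc hi b.two_le hn (by norm_num) (by decide +kernel)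

end Cfsg.Agent.H840.EP.Th
end

private theorem dce_5b27bccecb61 : _root_.True := by
  try have : _root_.True := by simp only [_root_.Cfsg.POmega.congr_simp]
  exact _root_.True.intro
end

-- part: H502/EP/HN
section
set_option linter.all false
open scoped Cfsg.Agent.FastGrp

/-!
# Degrees of representations of `HN` (helper502)

* `ls_five` : projective representations of `HN` in characteristic `≠ 5` have degree at least 20 (an extraspecial group
  `5^{1+2}` in the centraliser of an involution, its centre is fused by an element of order 4 modulo the centraliser);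
* `ls_two` : in odd characteristic at least 16 (the large extraspecial group `2^{1+8}`);
* `not_twenty` : in characteristic 2 the degree is not 20 (the involution commutes with the `5^{1+2}`);
-/

set_option autoImplicit false

universe u v w

namespace Cfsg.Agent.H502.EP.HN

open Cfsg Cfsg.Agent.HN.Pres Cfsg.Agent.HN.P1408 Cfsg.Agent.HN.H0Basic Cfsg.Agent.H203.LS Module

/-! ### words in `H0 = 2.HS.2` -/

/-- an element of order 5 -/
def wa : List ℕ := [1, 4, 3, 4, 4, 3, 0, 3, 3, 4, 0, 0]
/-- an element of order 5 -/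
def wb : List ℕ := [0, 4, 3, 4, 1, 3, 4, 0, 3, 2, 4, 2, 1, 4, 3, 3, 1, 2, 4, 0, 3, 4, 2, 4]
/-- their commutator -/
def wc : List ℕ := iw wb ++ (iw wa ++ (wb ++ wa))
/-- `c k = k c ^ 2` -/
def wk : List ℕ := [3, 4, 3, 0, 2, 2, 0, 2, 2, 0, 4, 2, 4, 2, 2, 2]

theorem pow_five (a : List ℕ) : hw a ^ 5 = hw (a ++ (a ++ (a ++ (a ++ a)))) := by
  rw [hw_append, hw_append, hw_append, hw_append]
  simp only [pow_succ, pow_zero, one_mul, mul_assoc]

theorem c_pow : hw wc ^ 5 = 1 := by
  rw [pow_five, ← hw_nil]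
  exact hw_eq (by decide +kernel)

theorem ac : hw wa * hw wc = hw wc * hw wa := by
  rw [← hw_append, ← hw_append]
  exact hw_eq (by decide +kernel)

theorem bc : hw wb * hw wc = hw wc * hw wb := by
  rw [← hw_append, ← hw_append]
  exact hw_eq (by decide +kernel)

theorem ba : hw wb * hw wa = hw wa * hw wb * hw wc := by
  rw [wc, hw_append, hw_append, hw_append, hw_iw, hw_iw]
  group

theorem ck : hw wc * hw wk = hw wk * hw wc ^ 2 := by
  rw [pow_two, ← hw_append, ← hw_append, ← hw_append]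
  exact hw_eq (by decide +kernel)

theorem c_ne : hw wc ≠ 1 := by
  rw [← hw_nil]
  exact hw_ne (p := 0) (by decide +kernel) (by decide +kernel) (by norm_num) (by decide +kernel)

theorem ck_pow (i : ℕ) : hw wc * hw wk ^ i = hw wk ^ i * hw wc ^ 2 ^ i := by
  induction i with
  | zero => simp
  | succ i ih =>
    have h1 : ∀ n : ℕ, hw wc ^ n * hw wk = hw wk * hw wc ^ (2 * n) := by
      intro n
      induction n with
      | zero => simp
      | succ n ihn =>
        calc hw wc ^ (n + 1) * hw wk = hw wc ^ n * (hw wc * hw wk) := by rw [pow_succ]; group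
          _ = (hw wc ^ n * hw wk) * hw wc ^ 2 := by rw [ck]; group
          _ = hw wk * hw wc ^ (2 * n) * hw wc ^ 2 := by rw [ihn]
          _ = hw wk * hw wc ^ (2 * (n + 1)) := by rw [mul_assoc, ← pow_add]; rfl
    calc hw wc * hw wk ^ (i + 1) = (hw wc * hw wk ^ i) * hw wk := by rw [pow_succ]; group
      _ = hw wk ^ i * (hw wc ^ 2 ^ i * hw wk) := by rw [ih]; group
      _ = hw wk ^ i * (hw wk * hw wc ^ (2 * 2 ^ i)) := by rw [h1]
      _ = _ := by rw [pow_succ (hw wk), pow_succ' 2 i]; group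

/-- representations of `H0` in characteristic `≠ 5`, nontrivial on `c` -/
theorem twenty_le {K : Type w} [Field K] [IsAlgClosed K] {V : Type w} [AddCommGroup V] [Module K V]
    [FiniteDimensional K V] (ρ : H0 →* (V →ₗ[K] V)) (h5 : (5 : K) ≠ 0) (hρ : ρ (hw wc) ≠ 1) : 20 ≤ finrank K V := by
  have h := Cfsg.Agent.H388.EP.heis_le ρ (by norm_num : Nat.Prime 5) (by exact_mod_cast h5) c_pow ac bc ba hρ
    (ι := Fin 4) (fun i => hw wk ^ (i : ℕ)) (fun i => 2 ^ (i : ℕ)) (fun i => ck_pow i) ?_ ?_
  · rwa [Fintype.card_fin] at h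
  · intro i j hij
    have : ∀ i j : Fin 4, ((2 ^ (i : ℕ) : ℕ) : ZMod 5) = ((2 ^ (j : ℕ) : ℕ) : ZMod 5) → i = j := by decide
    exact this i j hij
  · decide

theorem ψ_inj : Function.Injective Cfsg.Agent.HN.NormalH.ψ := KFacts.HN.emb.inj

/-- a nontrivial representation of a simple group is faithful -/
theorem rep_inj {G : Type u} [Group G] [IsSimpleGroup G] {K : Type v} {V : Type w} [Field K] [AddCommGroup V] [Module K V]
    (ρ : G →* (V →ₗ[K] V)) (h : ∃ g, ρ g ≠ 1) : Function.Injective ρ := by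
  have h1 : Function.Injective ρ.toHomUnits := by
    rw [← MonoidHom.ker_eq_bot_iff]
    rcases (MonoidHom.normal_ker ρ.toHomUnits).eq_bot_or_eq_top with h1 | h1
    · exact h1
    · exfalso
      obtain ⟨g, hg⟩ := h
      apply hg
      have h2 : g ∈ ρ.toHomUnits.ker := by rw [h1]; exact Subgroup.mem_top _
      exact congrArg Units.val (MonoidHom.mem_ker.1 h2)
  intro a b hab
  exact h1 (Units.ext hab)

theorem simple_HN : IsSimpleGroup Spor.HN := Cfsg.Agent.S1701.result.1

/-- **characteristic `≠ 5`** -/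
theorem ls_five : LS.{0, v, w} 5 20 Spor.HN := by
  refine Cfsg.Agent.H388.EP.ls_of_rep S2056.result ?_
  intro K _ _ V _ _ _ ρ h5 hρ
  have := simple_HN
  refine twenty_le (ρ.comp Cfsg.Agent.HN.NormalH.ψ) (by exact_mod_cast h5) ?_
  intro h
  apply c_ne
  apply ψ_inj
  apply rep_inj ρ hρ
  rw [map_one, map_one]
  exact h

/-- **odd characteristic** -/
theorem ls_two : LS.{0, v, w} 2 16 Spor.HN := by
  refine Cfsg.Agent.H388.EP.ls_of_rep S2056.result ?_
  intro K _ _ V _ _ _ ρ h2 hρ
  have := simple_HN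
  have hfin := KFacts.HN.finite_HN
  have hE := Cfsg.Agent.H823.isExtraspecial_of KFacts.HN.large (by rw [KFacts.HN.card_RS]; norm_num)
  exact Cfsg.Agent.H861.ExtraRep.dim_bound (w := 4) hE (by rw [KFacts.HN.card_RS]; norm_num) (by exact_mod_cast h2)
    (ρ.comp (Subgroup.subtype _)) ((rep_inj ρ hρ).comp (Subgroup.subtype_injective _))

/-- **characteristic 2: the degree is not 20** -/
theorem not_twenty {K : Type w} [Field K] [IsAlgClosed K] {V : Type w} [AddCommGroup V] [Module K V]
    [FiniteDimensional K V] (ρ : H0 →* (V →ₗ[K] V)) (h2 : (2 : K) = 0) (hn : finrank K V = 20) (hτ : ρ τ ≠ 1)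
    (hc : ρ (hw wc) ≠ 1) : False := by
  have h5 : (5 : K) ≠ 0 := by
    have : (5 : K) = 1 + 2 * 2 := by norm_num
    rw [this, h2, mul_zero, add_zero]
    exact one_ne_zero
  set N : V →ₗ[K] V := ρ τ - 1 with hN
  have hcomm : ∀ g v, N (ρ g v) = ρ g (N v) := by
    intro g v
    rw [hN, LinearMap.sub_apply, LinearMap.sub_apply, ← End.mul_apply, ← map_mul, ← τ_comm, map_mul,
      End.mul_apply, End.one_apply, End.one_apply, map_sub]
  have hNN : ∀ v, N (N v) = 0 := by
    intro v
    have h3 : ρ τ (ρ τ v) = v := by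
      rw [← End.mul_apply, ← map_mul, τ_mul_τ, map_one, End.one_apply]
    rw [hN, LinearMap.sub_apply, LinearMap.sub_apply, End.one_apply, End.one_apply, map_sub, h3]
    have h4 : v - ρ τ v - (ρ τ v - v) = (2 : K) • (v - ρ τ v) := by
      rw [two_smul]; abel
    rw [h4, h2, zero_smul]
  set U : Submodule K V := LinearMap.ker N with hU
  have hUt : U ≠ ⊤ := by
    intro h
    apply hτ
    have h3 : N = 0 := LinearMap.ker_eq_top.1 h
    exact sub_eq_zero.1 h3
  have hlt : finrank K U < 20 := by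
    rw [← hn]
    exact Submodule.finrank_lt (lt_top_iff_ne_top.2 hUt).ne
  have hinv : ∀ g, ∀ v ∈ U, ρ g v ∈ U := by
    intro g v hv
    rw [hU, LinearMap.mem_ker] at hv ⊢
    rw [hcomm, hv, map_zero]
  have hcU : ∀ v ∈ U, ρ (hw wc) v = v := by
    by_contra hcon
    push Not at hcon
    obtain ⟨v, hv, hv'⟩ := hcon
    have h3 := twenty_le (res ρ U hinv) h5 (by
      intro h
      apply hv'
      have h4 := LinearMap.congr_fun h ⟨v, hv⟩
      exact congrArg Subtype.val h4)
    omega
  have hM : ∀ v, ρ (hw wc) (ρ (hw wc) v - v) = ρ (hw wc) v - v := by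
    intro v
    apply hcU
    rw [hU, LinearMap.mem_ker, map_sub, hcomm, hcU _ (by rw [hU, LinearMap.mem_ker]; exact hNN v), sub_self]
  apply hc
  refine LinearMap.ext fun v => ?_
  rw [End.one_apply]
  have h6 : ∀ n : ℕ, ρ (hw wc ^ n) v = v + n • (ρ (hw wc) v - v) := by
    intro n
    induction n with
    | zero => simp
    | succ n ih =>
      rw [pow_succ', map_mul, End.mul_apply, ih, map_add, map_nsmul, hM, succ_nsmul]
      abel
  have h7 := h6 5
  rw [c_pow, map_one, End.one_apply] at h7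
  have h8 : (5 : ℕ) • (ρ (hw wc) v - v) = 0 := by
    have := h7.symm
    rwa [add_eq_left] at this
  rw [← Nat.cast_smul_eq_nsmul K] at h8
  have h9 := (smul_eq_zero.1 h8).resolve_left (by exact_mod_cast h5)
  exact sub_eq_zero.1 h9

end Cfsg.Agent.H502.EP.HN

private theorem dce_f2a920110e25 : _root_.True := by
  try have : _root_.True := by simp only [_root_.Cfsg.Agent.H502.EP.HN.wc.eq_1]
  exact _root_.True.intro
end
end
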